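import Groth.Agent.Lib.ShrinkTri.QCohGen
import Groth.Agent.Lib.FinDimBrown.Rep
import Groth.Agent.H83.ExtFinite.Projective
import Groth.Prelude.Def_KLin
import Groth.Prelude.Def_SGA6
import Mathlib.Algebra.Homology.DerivedCategory.Linear
import Mathlib.Algebra.Module.Shrink
import Mathlib.CategoryTheory.Linear.Yoneda

/-!
# Representability of finite functors on perfect objects
-/

set_option autoImplicit false
set_option linter.style.haveILetI false
set_option linter.unusedSectionVars false
set_option linter.unusedVariables false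

universe u

open CategoryTheory CategoryTheory.Limits CategoryTheory.Pretriangulated AlgebraicGeometry Opposite

attribute [local instance] HasDerivedCategory.standard

namespace Groth.Agent.H83.BVdB

open Groth.Agent.Lib Groth.Agent.Lib.ShrinkTri

/-- The equivalence from quasi-coherent objects to their small model, inverse direction. -/
noncomputable abbrev invF (X : Scheme.{u}) : ShrinkTri.QCohGen.Sm X ⥤ DCoh.DQCoh X :=
  ShrinkHoms.inverse.{u} (DCoh.DQCoh X)

/-- The equivalence from quasi-coherent objects to their small model. -/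
noncomputable abbrev funF (X : Scheme.{u}) : DCoh.DQCoh X ⥤ ShrinkTri.QCohGen.Sm X :=
  ShrinkHoms.functor.{u} (DCoh.DQCoh X)

variable (k : Type u) [Field k] {X : Scheme.{u}} [X.Over (Spec (CommRingCat.of k))]


theorem inv_fun {A B : (DCoh.DQCoh X)} (φ : A ⟶ B) : ((invF X)).map (((funF X)).map φ) = φ :=
  (equivShrink (A ⟶ B)).symm_apply_apply φ

/-- The scalar action on small morphism types. -/
noncomputable instance linearSm : CategoryTheory.Linear k (ShrinkTri.QCohGen.Sm X) where
  homModule A B :=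
    { smul := fun a f => ((funF X)).map (a • ((invF X)).map f)
      one_smul := fun f => ((invF X)).map_injective ((inv_fun _).trans (one_smul k _))
      mul_smul := fun a b f => ((invF X)).map_injective ((inv_fun _).trans ((mul_smul a b _).trans
        ((congrArg (a • ·) (inv_fun (b • ((invF X)).map f)).symm).trans (inv_fun _).symm)))
      smul_zero := fun a => ((invF X)).map_injective ((inv_fun _).trans
        (((congrArg (a • ·) (Functor.map_zero _ _ _)).trans (smul_zero a)).trans (Functor.map_zero _ _ _).symm))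
      smul_add := fun a f g => ((invF X)).map_injective ((inv_fun _).trans
        (((congrArg (a • ·) (Functor.map_add _)).trans (smul_add a _ _)).trans
          ((congrArg₂ (· + ·) (inv_fun _).symm (inv_fun _).symm).trans (Functor.map_add _).symm)))
      add_smul := fun a b f => ((invF X)).map_injective ((inv_fun _).trans
        ((add_smul a b _).trans
          ((congrArg₂ (· + ·) (inv_fun _).symm (inv_fun _).symm).trans (Functor.map_add _).symm)))
      zero_smul := fun f => ((invF X)).map_injective ((inv_fun _).trans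
        ((zero_smul k _).trans (Functor.map_zero _ _ _).symm)) }
  smul_comp A B C a f g := (invF X).map_injective (((invF X).map_comp _ _).trans
    ((congrArg (· ≫ _) (inv_fun (a • (invF X).map f))).trans
      ((CategoryTheory.Linear.smul_comp _ _ _ _ _ _).trans
        ((congrArg (a • ·) ((invF X).map_comp f g)).symm.trans (inv_fun _).symm))))
  comp_smul A B C f a g := (invF X).map_injective (((invF X).map_comp _ _).trans
    ((congrArg (_ ≫ ·) (inv_fun (a • (invF X).map g))).trans
      ((CategoryTheory.Linear.comp_smul _ _ _ _ _ _).trans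
        ((congrArg (a • ·) ((invF X).map_comp f g)).symm.trans (inv_fun _).symm))))

/-- Morphisms of small type as morphisms of `D(O_X)`. -/
noncomputable def G : (ShrinkTri.QCohGen.Sm X) ⥤ DCoh.D X := (invF X) ⋙ (DCoh.IsQCohD (X := X)).ι

theorem G_smul {A B : (ShrinkTri.QCohGen.Sm X)} (a : k) (f : A ⟶ B) : (G (X := X)).map (a • f) = a • (G (X := X)).map f :=
  congrArg (fun t => t.hom) (inv_fun (a • ((invF X)).map f))

/-- Morphisms of small type are morphisms of `D(O_X)`. -/
noncomputable def homG (A B : (ShrinkTri.QCohGen.Sm X)) : (A ⟶ B) ≃ₗ[k] ((G (X := X)).obj A ⟶ (G (X := X)).obj B) where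
  toFun f := (G (X := X)).map f
  map_add' f g := congrArg (fun t => t.hom) (((invF X)).map_add (f := f) (g := g))
  map_smul' a f := G_smul k a f
  invFun φ := ((funF X)).map (ObjectProperty.homMk φ)
  left_inv f := ((invF X)).map_injective (inv_fun (ObjectProperty.homMk ((G (X := X)).map f)))
  right_inv φ := congrArg (fun t => t.hom) (inv_fun (ObjectProperty.homMk φ))

include k in
theorem isPerfect_of_compact [CompactSpace X] [QuasiSeparatedSpace X] {A : (ShrinkTri.QCohGen.Sm X)}
    (hA : CohDer.IsCompactObject A) : DCoh.IsPerfect ((G (X := X)).obj A) := by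
  classical
  let K : (DCoh.DQCoh X) := ShrinkHoms.fromShrinkHoms A
  change DCoh.IsPerfect K.obj
  refine Gen43.Compact.isPerfect_of_fix (T' := ⊥)
    (by rw [TopologicalSpace.Opens.coe_bot]; exact isCompact_empty) K.property
    (Gen43.Restrict.van_bot _) (fun ι L _ hL f => ?_)
  let Y : ι → (DCoh.DQCoh X) := fun i => ⟨L i, (hL i).1⟩
  let Z : ι → (ShrinkTri.QCohGen.Sm X) := fun i => ((funF X)).obj (Y i)
  let P : (DCoh.DQCoh X) ⥤ DCoh.D X := (DCoh.IsQCohD (X := X)).ι
  haveI : PreservesColimitsOfShape (Discrete ι) ((funF X)) :=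
    (ShrinkHoms.equivalence.{u} (DCoh.DQCoh X)).toAdjunction.leftAdjoint_preservesColimits.preservesColimitsOfShape
  haveI : PreservesColimit (Discrete.functor Y) P := inferInstance
  let e : (∐ Z) ≅ ((funF X)).obj (∐ Y) := (PreservesCoproduct.iso ((funF X)) Y).symm
  let c : (∐ fun i => (Y i).obj) ≅ P.obj (∐ Y) := (PreservesCoproduct.iso P Y).symm
  let Gc : ((G (X := X)).obj (∐ Z)) ≅ (∐ L) := (G (X := X)).mapIso e ≪≫ c.symm
  let f' : A ⟶ ∐ Z := (homG k A (∐ Z)).symm (f ≫ Gc.inv)
  have hf' : (G (X := X)).map f' ≫ Gc.hom = f := by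
    exact (congrArg (· ≫ Gc.hom) ((homG k A (∐ Z)).apply_symm_apply _)).trans
      ((Category.assoc _ _ _).trans ((congrArg (f ≫ ·) Gc.inv_hom_id).trans (Category.comp_id _)))
  have hι : ∀ i, (G (X := X)).map (Sigma.ι Z i) ≫ Gc.hom = Sigma.ι L i := fun i => by
    have h1 : Sigma.ι Z i ≫ e.hom = ((funF X)).map (Sigma.ι Y i) := by
      change Sigma.ι (fun i => ((funF X)).obj (Y i)) i ≫ (PreservesCoproduct.iso ((funF X)) Y).inv = _
      rw [PreservesCoproduct.inv_hom, ι_comp_sigmaComparison]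
    have h2 : P.map (Sigma.ι Y i) ≫ c.inv = Sigma.ι L i := by
      rw [Iso.comp_inv_eq]
      exact ((congrArg (_ ≫ ·) (PreservesCoproduct.inv_hom P Y)).trans
        (ι_comp_sigmaComparison P Y i)).symm
    refine Eq.trans ?_ h2
    change (G (X := X)).map (Sigma.ι Z i) ≫ (G (X := X)).map e.hom ≫ c.inv = _
    refine (Category.assoc _ _ _).symm.trans ?_
    refine congrArg (· ≫ c.inv) ?_
    exact ((G (X := X)).map_comp _ _).symm.trans ((congrArg (G (X := X)).map h1).trans
      (congrArg (fun t => t.hom) (inv_fun (Sigma.ι Y i))))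
  obtain ⟨z, hz⟩ := (hA ι Z).2 f'
  have key : ∀ z : DirectSum ι (fun i => A ⟶ Z i),
      ∃ s : Finset ι, (G (X := X)).map (CohDer.homSumToHomCoprod A Z z) ≫ Gc.hom ≫ DerCat.FixCoprod.cut L s =
        (G (X := X)).map (CohDer.homSumToHomCoprod A Z z) ≫ Gc.hom := by
    intro z
    induction z using DirectSum.induction_on with
    | zero => exact ⟨∅, by
        have h0 : (G (X := X)).map (0 : A ⟶ ∐ Z) = 0 := (homG k A (∐ Z)).map_zero
        rw [map_zero, h0, zero_comp, zero_comp]⟩
    | of i g =>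
      refine ⟨{i}, ?_⟩
      rw [DerCat.Compact.homSum_of, Functor.map_comp, Category.assoc, Category.assoc,
        ← Category.assoc ((G (X := X)).map (Sigma.ι Z i)), hι]
      refine congrArg (_ ≫ ·) ((DerCat.FixCoprod.ι_cut L {i} i).trans ?_)
      rw [if_pos (Finset.mem_singleton_self i)]
    | add a b ha hb =>
      obtain ⟨s, hs⟩ := ha
      obtain ⟨t, ht⟩ := hb
      refine ⟨s ∪ t, ?_⟩
      have hadd : (G (X := X)).map (CohDer.homSumToHomCoprod A Z (a + b)) =
          (G (X := X)).map (CohDer.homSumToHomCoprod A Z a) + (G (X := X)).map (CohDer.homSumToHomCoprod A Z b) := by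
        rw [map_add]
        exact (homG k A (∐ Z)).map_add _ _
      rw [hadd, Preadditive.add_comp, Preadditive.add_comp]
      refine congrArg₂ (· + ·) ?_ ?_
      · exact (Category.assoc _ _ _).symm.trans (DerCat.FixCoprod.fix_mono L Finset.subset_union_left
          ((Category.assoc _ _ _).trans hs))
      · exact (Category.assoc _ _ _).symm.trans (DerCat.FixCoprod.fix_mono L Finset.subset_union_right
          ((Category.assoc _ _ _).trans ht))
  obtain ⟨s, hs⟩ := key z
  refine ⟨s, ?_⟩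
  rw [← hf', ← hz]
  exact (Category.assoc _ _ _).trans hs

section Rep

variable [CompactSpace X] [QuasiSeparatedSpace X]
  (H : ((SGA6.perfP X).FullSubcategory)ᵒᵖ ⥤ ModuleCat.{u + 1} k) [H.Additive]
  (hfin : ∀ E : (SGA6.perfP X).FullSubcategory, Module.Finite k (H.obj (op E)))

/-- A compact object as a perfect one. -/
noncomputable def toPerf : (FinDimBrown.Cpt (ShrinkTri.QCohGen.Sm X)).FullSubcategory ⥤ (SGA6.perfP X).FullSubcategory :=
  ObjectProperty.lift _ ((FinDimBrown.Cpt (ShrinkTri.QCohGen.Sm X)).ι ⋙ G) fun A => isPerfect_of_compact k A.property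

theorem small_of_finite {V : Type (u + 1)} [AddCommGroup V] [Module k V] (h : Module.Finite k V) : Small.{u} V := by
  obtain ⟨d, π, hπ⟩ := Module.Finite.exists_fin' k V
  exact small_of_surjective hπ

include hfin in
theorem exists_rep
    (hlin : ∀ (A B : (SGA6.perfP X).FullSubcategory) (r : k) (f : A ⟶ B), H.map (r • f).op = r • H.map f.op)
    (hcoh : ∀ T ∈ distTriang (DCoh.D X), ∀ (h₁ : DCoh.IsPerfect T.obj₁)
      (h₂ : DCoh.IsPerfect T.obj₂) (h₃ : DCoh.IsPerfect T.obj₃)
      (y : H.obj (op ⟨T.obj₂, h₂⟩)),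
      H.map (ObjectProperty.homMk T.mor₁ : (⟨T.obj₁, h₁⟩ : (SGA6.perfP X).FullSubcategory) ⟶ ⟨T.obj₂, h₂⟩).op y = 0 →
        ∃ z : H.obj (op ⟨T.obj₃, h₃⟩),
          H.map (ObjectProperty.homMk T.mor₂ : (⟨T.obj₂, h₂⟩ : (SGA6.perfP X).FullSubcategory) ⟶ ⟨T.obj₃, h₃⟩).op z = y) :
    ∃ K : DCoh.D X, DCoh.IsQCohD K ∧
      Nonempty (H ≅ (ObjectProperty.ι (SGA6.perfP X)).op ⋙ (linearYoneda k (DCoh.D X)).obj K) := by
  haveI : ∀ E : (FinDimBrown.Cpt (ShrinkTri.QCohGen.Sm X)).FullSubcategory, Small.{u} (H.obj (op ((toPerf k).obj E))) :=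
    fun E => small_of_finite k (hfin _)
  let H' : (FinDimBrown.Cpt (ShrinkTri.QCohGen.Sm X)).FullSubcategoryᵒᵖ ⥤ ModuleCat.{u} k :=
    { obj := fun E => ModuleCat.of k (Shrink.{u} (H.obj (op ((toPerf k).obj E.unop))))
      map := fun {A B} f => ModuleCat.ofHom
        (((Shrink.linearEquiv k _).symm.toLinearMap.comp (H.map ((toPerf k).map f.unop).op).hom).comp
          (Shrink.linearEquiv k _).toLinearMap)
      map_id := fun A => by
        ext x
        simp
      map_comp := fun f g => by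
        ext x
        simp }
  have hadd : H'.Additive := ⟨fun {A B f g} => by
    have h1 : (toPerf (X := X) k).map (f + g).unop = (toPerf k).map f.unop + (toPerf k).map g.unop :=
      ObjectProperty.hom_ext _ ((homG k _ _).map_add f.unop.hom g.unop.hom)
    refine ModuleCat.hom_ext (LinearMap.ext fun x => ?_)
    change (Shrink.linearEquiv k _).symm (H.map ((toPerf k).map (f + g).unop).op (Shrink.linearEquiv k _ x)) = _
    rw [h1, op_add, Functor.map_add]
    exact map_add (Shrink.linearEquiv k _).symm _ _⟩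
  obtain ⟨T, obj, hc, hall⟩ := FinDimBrown.Small.exists_small (QCohGen.isCompactlyGenerated (X := X))
  let S : FinDimBrown.Datum k (ShrinkTri.QCohGen.Sm X) :=
    { H := H'
      additive := hadd
      linear := fun A B r f => by
        have h1 : (toPerf (X := X) k).map (r • f) = r • (toPerf k).map f :=
          ObjectProperty.hom_ext _ (G_smul k r f.hom)
        refine ModuleCat.hom_ext (LinearMap.ext fun x => ?_)
        change (Shrink.linearEquiv k _).symm (H.map ((toPerf k).map (r • f)).op (Shrink.linearEquiv k _ x)) = _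
        rw [h1, hlin]
        exact map_smul (Shrink.linearEquiv k _).symm _ _
      T := T
      obj := obj
      compact := hc
      exists_iso := hall
      K1 := k
      e1 := LinearEquiv.refl k k }
  have hex : S.Exact := by
    intro T₀ hT₀ h₁ h₂ h₃ y hy
    obtain ⟨T', e, hT'⟩ := hT₀
    let T'' := (DCoh.IsQCohD (X := X)).ι.mapTriangle.obj T'
    have hT'' : T'' ∈ distTriang (DCoh.D X) := (DCoh.IsQCohD (X := X)).ι.map_distinguished _ hT'
    let a₁ : T₀.obj₁ ≅ ((funF X)).obj T'.obj₁ := Triangle.π₁.mapIso e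
    let a₂ : T₀.obj₂ ≅ ((funF X)).obj T'.obj₂ := Triangle.π₂.mapIso e
    let a₃ : T₀.obj₃ ≅ ((funF X)).obj T'.obj₃ := Triangle.π₃.mapIso e
    let P₁ := (toPerf k).obj (⟨T₀.obj₁, h₁⟩ : (FinDimBrown.Cpt (ShrinkTri.QCohGen.Sm X)).FullSubcategory)
    let P₂ := (toPerf k).obj (⟨T₀.obj₂, h₂⟩ : (FinDimBrown.Cpt (ShrinkTri.QCohGen.Sm X)).FullSubcategory)
    let P₃ := (toPerf k).obj (⟨T₀.obj₃, h₃⟩ : (FinDimBrown.Cpt (ShrinkTri.QCohGen.Sm X)).FullSubcategory)
    let Q₁ : (SGA6.perfP X).FullSubcategory := ⟨T''.obj₁, Perfect.Triangle.isPerfect_of_iso (G.mapIso a₁) P₁.property⟩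
    let Q₂ : (SGA6.perfP X).FullSubcategory := ⟨T''.obj₂, Perfect.Triangle.isPerfect_of_iso (G.mapIso a₂) P₂.property⟩
    let Q₃ : (SGA6.perfP X).FullSubcategory := ⟨T''.obj₃, Perfect.Triangle.isPerfect_of_iso (G.mapIso a₃) P₃.property⟩
    let b₁ : P₁ ≅ Q₁ := ObjectProperty.isoMk _ (G.mapIso a₁)
    let b₂ : P₂ ≅ Q₂ := ObjectProperty.isoMk _ (G.mapIso a₂)
    let b₃ : P₃ ≅ Q₃ := ObjectProperty.isoMk _ (G.mapIso a₃)
    let m₁ : Q₁ ⟶ Q₂ := ObjectProperty.homMk T''.mor₁
    let m₂ : Q₂ ⟶ Q₃ := ObjectProperty.homMk T''.mor₂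
    let n₁ : P₁ ⟶ P₂ := (toPerf k).map (ObjectProperty.homMk T₀.mor₁)
    let n₂ : P₂ ⟶ P₃ := (toPerf k).map (ObjectProperty.homMk T₀.mor₂)
    have c₁ : n₁ = b₁.hom ≫ m₁ ≫ b₂.inv := by
      refine ObjectProperty.hom_ext _ ?_
      change G.map T₀.mor₁ = G.map a₁.hom ≫ T''.mor₁ ≫ G.map a₂.inv
      rw [show T''.mor₁ = G.map (((funF X)).map T'.mor₁) from (congrArg (fun t => t.hom) (inv_fun T'.mor₁)).symm]
      refine Eq.trans (congrArg (G (X := X)).map ?_) (((G (X := X)).map_comp _ _).trans (congrArg (_ ≫ ·) ((G (X := X)).map_comp _ _)))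
      have h := e.hom.comm₁
      change T₀.mor₁ ≫ a₂.hom = a₁.hom ≫ ((funF X)).map T'.mor₁ at h
      rw [← Category.assoc, Iso.eq_comp_inv]
      exact h
    have c₂ : n₂ = b₂.hom ≫ m₂ ≫ b₃.inv := by
      refine ObjectProperty.hom_ext _ ?_
      change G.map T₀.mor₂ = G.map a₂.hom ≫ T''.mor₂ ≫ G.map a₃.inv
      rw [show T''.mor₂ = G.map (((funF X)).map T'.mor₂) from (congrArg (fun t => t.hom) (inv_fun T'.mor₂)).symm]
      refine Eq.trans (congrArg (G (X := X)).map ?_) (((G (X := X)).map_comp _ _).trans (congrArg (_ ≫ ·) ((G (X := X)).map_comp _ _)))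
      have h := e.hom.comm₂
      change T₀.mor₂ ≫ a₃.hom = a₂.hom ≫ ((funF X)).map T'.mor₂ at h
      rw [← Category.assoc, Iso.eq_comp_inv]
      exact h
    let y₀ : H.obj (op P₂) := Shrink.linearEquiv k _ y
    have hy₀ : H.map n₁.op y₀ = 0 :=
      (Shrink.linearEquiv k _).symm.injective (hy.trans (map_zero _).symm)
    have hy₁ : H.map m₁.op (H.map b₂.inv.op y₀) = 0 := by
      have : H.map b₁.hom.op (H.map m₁.op (H.map b₂.inv.op y₀)) = 0 := by
        rw [← hy₀, c₁]
        simp
      exact (ModuleCat.mono_iff_injective (H.map b₁.hom.op)).1 inferInstance (this.trans (map_zero _).symm)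
    obtain ⟨z, hz⟩ := hcoh T'' hT'' Q₁.property Q₂.property Q₃.property (H.map b₂.inv.op y₀) hy₁
    refine ⟨(Shrink.linearEquiv k _).symm (H.map b₃.hom.op z), ?_⟩
    change (Shrink.linearEquiv k _).symm (H.map n₂.op (Shrink.linearEquiv k _ ((Shrink.linearEquiv k _).symm _))) = y
    rw [LinearEquiv.apply_symm_apply, LinearEquiv.symm_apply_eq]
    change H.map n₂.op (H.map b₃.hom.op z) = y₀
    rw [c₂]
    have : H.map b₂.hom.op (H.map m₂.op z) = y₀ := by
      rw [show H.map m₂.op z = H.map b₂.inv.op y₀ from hz]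
      simp [← ModuleCat.comp_apply, ← Functor.map_comp, ← op_comp]
    rw [← this]
    simp [← ModuleCat.comp_apply, ← Functor.map_comp, ← op_comp]
  obtain ⟨Y, e, he⟩ := S.exists_iso_natural (QCohGen.isCompactlyGenerated (X := X)) hex
    (fun {A} hA => by
      haveI := hfin ((toPerf k).obj (⟨A, hA⟩ : (FinDimBrown.Cpt (ShrinkTri.QCohGen.Sm X)).FullSubcategory))
      exact Module.Finite.equiv (Shrink.linearEquiv k _).symm)
  let cp : ∀ E : (SGA6.perfP X).FullSubcategory, (FinDimBrown.Cpt (ShrinkTri.QCohGen.Sm X)).FullSubcategory := fun E =>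
    ⟨((funF X)).obj ⟨E.obj, Perfect.QCohD.isQCohD_of_isPerfect E.property⟩,
      QCohGen.isCompactObject ⟨E.obj, Perfect.QCohD.isQCohD_of_isPerfect E.property⟩ E.property⟩
  let cq : ∀ E : (SGA6.perfP X).FullSubcategory, (toPerf k).obj (cp E) ≅ E := fun E =>
    ObjectProperty.isoMk _ (Iso.refl E.obj)
  refine ⟨(ShrinkHoms.fromShrinkHoms Y : (DCoh.DQCoh X)).obj, (ShrinkHoms.fromShrinkHoms Y : (DCoh.DQCoh X)).property,
    ⟨NatIso.ofComponents (fun E => H.mapIso (cq E.unop).op ≪≫
      ((Shrink.linearEquiv k _).symm ≪≫ₗ e (cp E.unop).property ≪≫ₗ homG k _ _).toModuleIso) fun {E E'} f => ?_⟩⟩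
  ext x
  let φ : (⟨E'.unop.obj, Perfect.QCohD.isQCohD_of_isPerfect E'.unop.property⟩ : DCoh.DQCoh X) ⟶
      ⟨E.unop.obj, Perfect.QCohD.isQCohD_of_isPerfect E.unop.property⟩ := ObjectProperty.homMk f.unop.hom
  let g : cp E'.unop ⟶ cp E.unop := ObjectProperty.homMk (((funF X)).map φ)
  have hφ : G.map ((funF X).map φ) = f.unop.hom := congrArg (fun t => t.hom) (inv_fun φ)
  have hg : (toPerf k).map g ≫ (cq E.unop).hom = (cq E'.unop).hom ≫ f.unop := by
    refine ObjectProperty.hom_ext _ ?_
    change G.map ((funF X).map φ) ≫ 𝟙 _ = 𝟙 _ ≫ f.unop.hom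
    exact (Category.comp_id _).trans (hφ.trans (Category.id_comp _).symm)
  have hH : H.map (cq E'.unop).hom.op (H.map f x) = H.map ((toPerf k).map g).op (H.map (cq E.unop).hom.op x) := by
    have := congrArg (fun t => H.map t.op x) hg
    simpa [ModuleCat.comp_apply] using this.symm
  change G.map (e (cp E'.unop).property ((Shrink.linearEquiv k _).symm (H.map (cq E'.unop).hom.op (H.map f x)))) =
    f.unop.hom ≫ G.map (e (cp E.unop).property ((Shrink.linearEquiv k _).symm (H.map (cq E.unop).hom.op x)))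
  rw [hH]
  have h2 := he (cp E'.unop).property (cp E.unop).property g.hom
    ((Shrink.linearEquiv k _).symm (H.map (cq E.unop).hom.op x))
  have h3 : S.h (cp E'.unop).property (cp E.unop).property g.hom
      ((Shrink.linearEquiv k _).symm (H.map (cq E.unop).hom.op x)) =
      (Shrink.linearEquiv k _).symm (H.map ((toPerf k).map g).op (H.map (cq E.unop).hom.op x)) :=
    congrArg (Shrink.linearEquiv k _).symm
      (congrArg (H.map ((toPerf k).map g).op) ((Shrink.linearEquiv k _).apply_symm_apply _))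
  rw [h3] at h2
  refine (congrArg G.map h2).trans ((G.map_comp _ _).trans ?_)
  exact congrArg (· ≫ _) hφ

end Rep

end Groth.Agent.H83.BVdB
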